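import Groth.Prelude.Def_EtCech
import Groth.Prelude.Def_DeltaF
import Groth.Agent.CechInjective.Basic
import Mathlib.Algebra.Homology.HomologySequence
import Mathlib.Algebra.Homology.HomologicalComplexAbelian
import Mathlib.Algebra.Homology.ShortComplex.ExactFunctor
import Mathlib.CategoryTheory.Preadditive.Injective.Basic
import Mathlib.Algebra.Category.Grp.Limits

/-!
# Čech cohomology of presheaves as an effaceable delta-functor
-/

set_option autoImplicit false
set_option backward.isDefEq.respectTransparency false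
set_option backward.isDefEq.respectTransparency.types false

universe w v u

open CategoryTheory CategoryTheory.Limits Opposite Simplicial

noncomputable section

namespace Groth.Agent.CechDerivedLib

open CechInjective

variable {C : Type u} [Category.{v} C] {U : C} [HasFiniteProducts (Over U)] {ι : Type w} (Uf : ι → Over U)

/-- The Čech complex, as a functor of the presheaf. -/
abbrev cxF : (Cᵒᵖ ⥤ AddCommGrpCat.{w}) ⥤ CochainComplex AddCommGrpCat.{w} ℕ :=
  (Functor.whiskeringLeft (Over U)ᵒᵖ Cᵒᵖ AddCommGrpCat.{w}).obj (Over.forget U).op ⋙ cechComplexFunctor Uf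

theorem cxF_map_π {P Q : Cᵒᵖ ⥤ AddCommGrpCat.{w}} (f : P ⟶ Q) (n : ℕ) (x : Coch Uf P n)
    (i : ((E Uf).obj (op ⦋n⦌)).I) :
    (Pi.π (fun i => Q.obj (op (((E Uf).obj (op ⦋n⦌)).obj i).left)) i) (((cxF Uf).map f).f n x : Coch Uf Q n) =
      f.app (op (((E Uf).obj (op ⦋n⦌)).obj i).left)
        ((Pi.π (fun i => P.obj (op (((E Uf).obj (op ⦋n⦌)).obj i).left)) i) x) :=
  ConcreteCategory.congr_hom (Pi.map_π (f := fun i => P.obj (op (((E Uf).obj (op ⦋n⦌)).obj i).left))
    (g := fun i => Q.obj (op (((E Uf).obj (op ⦋n⦌)).obj i).left)) _ i) x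

theorem coch_ext (P : Cᵒᵖ ⥤ AddCommGrpCat.{w}) (n : ℕ) {x y : Coch Uf P n}
    (h : ∀ i, (Pi.π (fun i => P.obj (op (((E Uf).obj (op ⦋n⦌)).obj i).left)) i) x =
      (Pi.π (fun i => P.obj (op (((E Uf).obj (op ⦋n⦌)).obj i).left)) i) y) : x = y :=
  Concrete.limit_ext _ _ _ fun ⟨i⟩ => h i

instance additive_cxF : (cxF Uf).Additive where
  map_add {P Q} {f g} := by
    ext n : 1
    refine AddCommGrpCat.hom_ext (AddMonoidHom.ext fun x => coch_ext Uf Q n fun i => ?_)
    refine (cxF_map_π Uf (f + g) n x i).trans ?_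
    show _ = (Pi.π (fun i => Q.obj (op (((E Uf).obj (op ⦋n⦌)).obj i).left)) i)
      ((((cxF Uf).map f).f n x : Coch Uf Q n) + ((cxF Uf).map g).f n x)
    rw [map_add, cxF_map_π, cxF_map_π]
    rfl

theorem shortExact_cxF {S : ShortComplex (Cᵒᵖ ⥤ AddCommGrpCat.{w})} (hS : S.ShortExact) :
    (S.map (cxF Uf)).ShortExact := by
  have hev : ∀ W, (S.map ((evaluation Cᵒᵖ AddCommGrpCat.{w}).obj W)).ShortExact :=
    fun W => hS.map_of_exact _
  refine HomologicalComplex.shortExact_of_degreewise_shortExact _ fun n => ?_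
  refine { exact := ?_, mono_f := ?_, epi_g := ?_ }
  · rw [ShortComplex.ab_exact_iff]
    intro x hx
    choose a ha using fun i => (ShortComplex.ab_exact_iff _).1 (hev (op (((E Uf).obj (op ⦋n⦌)).obj i).left)).exact
      ((Pi.π (fun i => S.X₂.obj (op (((E Uf).obj (op ⦋n⦌)).obj i).left)) i) (x : Coch Uf S.X₂ n)) (by
        refine (cxF_map_π Uf S.g n x i).symm.trans ?_
        rw [show (((cxF Uf).map S.g).f n x : Coch Uf S.X₃ n) = 0 from hx, map_zero])
    refine ⟨((Concrete.productEquiv _).symm a : Coch Uf S.X₁ n), coch_ext Uf S.X₂ n fun i => ?_⟩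
    refine (cxF_map_π Uf S.f n _ i).trans ?_
    rw [Concrete.productEquiv_symm_apply_π]
    exact ha i
  · rw [AddCommGrpCat.mono_iff_injective]
    intro x y h
    refine coch_ext Uf S.X₁ n fun i => ?_
    have hm := (AddCommGrpCat.mono_iff_injective _).1 (hev (op (((E Uf).obj (op ⦋n⦌)).obj i).left)).mono_f
    refine hm ?_
    refine (cxF_map_π Uf S.f n x i).symm.trans (Eq.trans ?_ (cxF_map_π Uf S.f n y i))
    exact congrArg _ h
  · rw [AddCommGrpCat.epi_iff_surjective]
    intro y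
    choose a ha using fun i => (AddCommGrpCat.epi_iff_surjective _).1
      (hev (op (((E Uf).obj (op ⦋n⦌)).obj i).left)).epi_g
        ((Pi.π (fun i => S.X₃.obj (op (((E Uf).obj (op ⦋n⦌)).obj i).left)) i) (y : Coch Uf S.X₃ n))
    refine ⟨((Concrete.productEquiv _).symm a : Coch Uf S.X₂ n), coch_ext Uf S.X₃ n fun i => ?_⟩
    refine (cxF_map_π Uf S.g n _ i).trans ?_
    rw [Concrete.productEquiv_symm_apply_π]
    exact ha i

/-- Čech cohomology as a delta-functor on presheaves. -/
def cechT : DeltaF.CohDeltaFunctor (Cᵒᵖ ⥤ AddCommGrpCat.{w}) AddCommGrpCat.{w} ℕ where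
  F n := cxF Uf ⋙ HomologicalComplex.homologyFunctor AddCommGrpCat.{w} (ComplexShape.up ℕ) n
  additive n := inferInstance
  δ S hS n₀ n₁ h := (shortExact_cxF Uf hS).δ n₀ n₁ h
  δ_natural {S S'} hS hS' φ n₀ n₁ h :=
    (HomologicalComplex.HomologySequence.δ_naturality ((cxF Uf).mapShortComplex.map φ)
      (shortExact_cxF Uf hS) (shortExact_cxF Uf hS') n₀ n₁ h).symm
  exact₂ S hS n := (shortExact_cxF Uf hS).homology_exact₂ n
  comp_δ S hS n₀ n₁ h := (shortExact_cxF Uf hS).comp_δ n₀ n₁ h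
  exact₃ S hS n₀ n₁ h := (shortExact_cxF Uf hS).homology_exact₃ n₀ n₁ h
  δ_comp S hS n₀ n₁ h := (shortExact_cxF Uf hS).δ_comp n₀ n₁ h
  exact₁ S hS n₀ n₁ h := (shortExact_cxF Uf hS).homology_exact₁ n₀ n₁ h

theorem zeroMono_cechT : (cechT Uf).ZeroMono := by
  intro S hS
  haveI := (shortExact_cxF Uf hS).mono_f
  show Mono (HomologicalComplex.homologyMap ((cxF Uf).map S.f) 0)
  haveI : Mono (HomologicalComplex.cyclesMap ((cxF Uf).map S.f) 0) := by
    haveI : Mono (((cxF Uf).map S.f).f 0) :=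
      (inferInstance : Mono ((HomologicalComplex.eval _ _ 0).map (S.map (cxF Uf)).f))
    exact mono_of_mono_fac (h := HomologicalComplex.iCycles _ 0 ≫ ((cxF Uf).map S.f).f 0)
      (HomologicalComplex.cyclesMap_i _ _)
  rw [← mono_comp_iff_of_mono _ (CochainComplex.isoHomologyπ₀ _).inv,
    show HomologicalComplex.homologyMap ((cxF Uf).map S.f) 0 ≫ (CochainComplex.isoHomologyπ₀ _).inv =
      (CochainComplex.isoHomologyπ₀ _).inv ≫ HomologicalComplex.cyclesMap ((cxF Uf).map S.f) 0 from ?_]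
  · infer_instance
  · rw [Iso.comp_inv_eq, Category.assoc, Iso.eq_inv_comp]
    exact HomologicalComplex.homologyπ_naturality _ _

theorem isEffaceable_cechT [LocallySmall.{w} C] [EnoughInjectives (Cᵒᵖ ⥤ AddCommGrpCat.{w})] :
    (cechT Uf).IsEffaceable := by
  intro n P
  refine ⟨Injective.under P, Injective.ι P, inferInstance, ?_⟩
  exact (isZero_cechH_injective Uf (Injective.under P) n).eq_of_tgt _ _

end Groth.Agent.CechDerivedLib
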